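import Cfsg.Agent.Lib.Helper47.UG.Defs

set_option autoImplicit false

namespace Cfsg.Agent.Lib.Helper47.UG

open Cfsg Cfsg.Geo
open Cfsg.Agent.Lib.Helper77.Asch (NormBy MinOver sc)
open Cfsg.Agent.Lib.Helper77.AschG (tw slot)
open Cfsg.Agent.Lib.Helper47.UC (InGeoV)
open scoped MatrixGroups Matrix Kronecker

variable {n : ℕ} {F : Type*} [Field F]

theorem chp_map_conj {G : Type*} [Group G] (K : Subgroup G) (P k : G) (hk : k ∈ K) :
    K.map (MulAut.conj (P * k)).toMonoidHom = K.map (MulAut.conj P).toMonoidHom := by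
  ext g
  constructor
  · rintro ⟨x, hx, rfl⟩
    refine ⟨k * x * k⁻¹, K.mul_mem (K.mul_mem hk hx) (K.inv_mem hk), ?_⟩
    simp [MulAut.conj_apply, mul_assoc]
  · rintro ⟨x, hx, rfl⟩
    refine ⟨k⁻¹ * x * k, K.mul_mem (K.mul_mem (K.inv_mem hk) hx) hk, ?_⟩
    simp [MulAut.conj_apply, mul_assoc]

/-- the unit with matrix `C₁ ⊗ₖ C₂`. -/
def chpK {s k : ℕ} (C₁ : GL (Fin s) F) (C₂ : GL (Fin k) F) : GL (Fin s × Fin k) F where
  val := (C₁ : Matrix (Fin s) (Fin s) F) ⊗ₖ (C₂ : Matrix (Fin k) (Fin k) F)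
  inv := ((C₁⁻¹ : GL (Fin s) F) : Matrix (Fin s) (Fin s) F) ⊗ₖ ((C₂⁻¹ : GL (Fin k) F) : Matrix (Fin k) (Fin k) F)
  val_inv := by
    rw [← Matrix.mul_kronecker_mul, ← Units.val_mul, ← Units.val_mul, mul_inv_cancel, mul_inv_cancel,
      Units.val_one, Units.val_one, Matrix.one_kronecker_one]
  inv_val := by
    rw [← Matrix.mul_kronecker_mul, ← Units.val_mul, ← Units.val_mul, inv_mul_cancel, inv_mul_cancel,
      Units.val_one, Units.val_one, Matrix.one_kronecker_one]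

-- RUNG CHP
/-- CHP. -/
theorem exists_changeP_gen {s k : ℕ} (e : Fin n ≃ Fin s × Fin k) (P : GL (Fin n) F) (C₁ : GL (Fin s) F) (C₂ : GL (Fin k) F) :
    ∃ P' : GL (Fin n) F,
      (∀ x : Fin s × Fin k → F, (P' : Matrix (Fin n) (Fin n) F) *ᵥ (x ∘ e) = (P : Matrix (Fin n) (Fin n) F) *ᵥ
        ((((C₁ : Matrix (Fin s) (Fin s) F) ⊗ₖ (C₂ : Matrix (Fin k) (Fin k) F)) *ᵥ x) ∘ e)) ∧
      tensorProductSubgroup s k e P' = tensorProductSubgroup s k e P := by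
  refine ⟨P * glReindex e.symm (chpK C₁ C₂), ?_, ?_⟩
  · intro x
    rw [Units.val_mul, ← Matrix.mulVec_mulVec]
    congr 1
    change ((C₁ : Matrix (Fin s) (Fin s) F) ⊗ₖ (C₂ : Matrix (Fin k) (Fin k) F)).submatrix e e *ᵥ (x ∘ e) = _
    rw [Matrix.submatrix_mulVec_equiv]
    simp [Function.comp_assoc]
  · unfold tensorProductSubgroup
    apply chp_map_conj
    exact ⟨_, ⟨C₁, C₂, rfl⟩, rfl⟩

end Cfsg.Agent.Lib.Helper47.UG
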