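import Mathlib

set_option autoImplicit false

namespace Cfsg.Agent.Lib.Helper47.UG

open scoped MatrixGroups Matrix Kronecker

variable {n : ℕ} {F : Type*} [Field F]

theorem fsim_ne {m : ℕ} (G : Matrix (Fin m) (Fin m) F) (h : G ≠ 0) : ∃ i j, G i j ≠ 0 := by
  by_contra hcon
  push Not at hcon
  exact h (by ext i j; exact hcon i j)

theorem factor_sim (q : ℕ) {s k : ℕ} (a : Matrix (Fin s) (Fin s) F) (b : Matrix (Fin k) (Fin k) F)
    (G₁ : Matrix (Fin s) (Fin s) F) (G₂ : Matrix (Fin k) (Fin k) F) (h1 : G₁ ≠ 0) (h2 : G₂ ≠ 0) (l : F) (hl : l ≠ 0)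
    (h : (a ⊗ₖ b)ᵀ * (G₁ ⊗ₖ G₂) * (a ⊗ₖ b).map (· ^ q) = l • (G₁ ⊗ₖ G₂)) :
    ∃ μ ν : F, μ ≠ 0 ∧ ν ≠ 0 ∧ aᵀ * G₁ * a.map (· ^ q) = μ • G₁ ∧ bᵀ * G₂ * b.map (· ^ q) = ν • G₂ := by
  set A := aᵀ * G₁ * a.map (· ^ q) with hA
  set B := bᵀ * G₂ * b.map (· ^ q) with hB
  have hmap : (a ⊗ₖ b).map (· ^ q) = a.map (· ^ q) ⊗ₖ b.map (· ^ q) := by
    ext ⟨i, j⟩ ⟨i', j'⟩
    simp [Matrix.kroneckerMap_apply, mul_pow]
  have hT : (a ⊗ₖ b)ᵀ = aᵀ ⊗ₖ bᵀ := by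
    ext ⟨i, j⟩ ⟨i', j'⟩
    simp [Matrix.kroneckerMap_apply]
  have hAB : A ⊗ₖ B = l • (G₁ ⊗ₖ G₂) := by
    rw [← h, hmap, hT, ← Matrix.mul_kronecker_mul, ← Matrix.mul_kronecker_mul]
  have hent : ∀ i i' j j', A i i' * B j j' = l * (G₁ i i' * G₂ j j') := by
    intro i i' j j'
    have := congrFun (congrFun hAB (i, j)) (i', j')
    simpa [Matrix.kroneckerMap_apply] using this
  obtain ⟨i, i', hi⟩ := fsim_ne G₁ h1
  obtain ⟨j, j', hj⟩ := fsim_ne G₂ h2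
  have h0 := hent i i' j j'
  have hne : A i i' * B j j' ≠ 0 := by
    rw [h0]; exact mul_ne_zero hl (mul_ne_zero hi hj)
  have hAne : A i i' ≠ 0 := left_ne_zero_of_mul hne
  have hBne : B j j' ≠ 0 := right_ne_zero_of_mul hne
  refine ⟨l * G₂ j j' / B j j', l * G₁ i i' / A i i', div_ne_zero (mul_ne_zero hl hj) hBne,
    div_ne_zero (mul_ne_zero hl hi) hAne, ?_, ?_⟩
  · ext x x'
    rw [Matrix.smul_apply, smul_eq_mul]
    have := hent x x' j j'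
    field_simp
    linear_combination this
  · ext y y'
    rw [Matrix.smul_apply, smul_eq_mul]
    have := hent i i' y y'
    field_simp
    linear_combination this

end Cfsg.Agent.Lib.Helper47.UG
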