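import Cfsg.Agent.Lib.Helper47.UC.TG2

/-! Ladder UG (helper47), rung SIM2 (helper56). -/

set_option autoImplicit false

namespace Cfsg.Agent.Lib.Helper47.UG

open Cfsg Cfsg.Geo
open Cfsg.Agent.Lib.Helper17 (two_le_of_card_sq add_pow_q pow_q_pow_q)
open scoped MatrixGroups Matrix Kronecker

variable {n : ℕ} {F : Type*} [Field F]

/-- SIM2. -/
theorem sim2_rational [Fintype F] (q : ℕ) (hF : Fintype.card F = q ^ 2) (a : GL (Fin 2) F) (l : F) (hl : l ≠ 0)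
    (h : ∀ x y : Fin 2 → F,
      (((a : Matrix (Fin 2) (Fin 2) F) *ᵥ x) 0 * ((a : Matrix (Fin 2) (Fin 2) F) *ᵥ y) 1 ^ q
        - ((a : Matrix (Fin 2) (Fin 2) F) *ᵥ x) 1 * ((a : Matrix (Fin 2) (Fin 2) F) *ᵥ y) 0 ^ q)
        = l * (x 0 * y 1 ^ q - x 1 * y 0 ^ q)) :
    ∃ c : F, c ≠ 0 ∧ ∀ i j, (c * (a : Matrix (Fin 2) (Fin 2) F) i j) ^ q = c * (a : Matrix (Fin 2) (Fin 2) F) i j := by
  have hq : q ≠ 0 := by
    have := two_le_of_card_sq hF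
    omega
  obtain ⟨α, hα⟩ : ∃ α, α = (a : Matrix (Fin 2) (Fin 2) F) 0 0 := ⟨_, rfl⟩
  obtain ⟨β, hβ⟩ : ∃ β, β = (a : Matrix (Fin 2) (Fin 2) F) 0 1 := ⟨_, rfl⟩
  obtain ⟨γ, hγ⟩ : ∃ γ, γ = (a : Matrix (Fin 2) (Fin 2) F) 1 0 := ⟨_, rfl⟩
  obtain ⟨δ, hδ⟩ : ∃ δ, δ = (a : Matrix (Fin 2) (Fin 2) F) 1 1 := ⟨_, rfl⟩
  have h00 := h ![1, 0] ![1, 0]
  have h01 := h ![1, 0] ![0, 1]
  have h10 := h ![0, 1] ![1, 0]
  have h11 := h ![0, 1] ![0, 1]
  simp only [Matrix.mulVec, dotProduct, Fin.sum_univ_two, Matrix.cons_val_zero, Matrix.cons_val_one,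
    mul_one, mul_zero, add_zero, zero_add, ← hα, ← hβ, ← hγ, ← hδ, zero_pow hq, one_pow, sub_zero,
    zero_sub, sub_self, zero_mul] at h00 h01 h10 h11
  have hD : α * δ - β * γ ≠ 0 := by
    have h1 : (a : Matrix (Fin 2) (Fin 2) F).det ≠ 0 :=
      ((Matrix.isUnit_iff_isUnit_det _).1 a.isUnit).ne_zero
    rw [Matrix.det_fin_two, ← hα, ← hβ, ← hγ, ← hδ] at h1
    exact h1
  obtain ⟨μ, hμ⟩ : ∃ μ, μ = l / (α * δ - β * γ) := ⟨_, rfl⟩
  have hμD : μ * (α * δ - β * γ) = l := by rw [hμ]; field_simp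
  have eα : α ^ q = μ * α := by
    apply mul_left_cancel₀ hD
    linear_combination (-α) * h10 + β * h00 - α * hμD
  have eγ : γ ^ q = μ * γ := by
    apply mul_left_cancel₀ hD
    linear_combination (-γ) * h10 + δ * h00 - γ * hμD
  have eβ : β ^ q = μ * β := by
    apply mul_left_cancel₀ hD
    linear_combination β * h01 - α * h11 - β * hμD
  have eδ : δ ^ q = μ * δ := by
    apply mul_left_cancel₀ hD
    linear_combination δ * h01 - γ * h11 - δ * hμD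
  have hμ1 : μ ^ q * μ = 1 := by
    have key : ∀ z : F, z ≠ 0 → z ^ q = μ * z → μ ^ q * μ = 1 := by
      intro z hz e
      have h1 : (z ^ q) ^ q = z := pow_q_pow_q hF z
      rw [e, mul_pow, e] at h1
      apply mul_right_cancel₀ hz
      rw [one_mul, mul_assoc]
      exact h1
    by_cases hα0 : α = 0
    · have hβ0 : β ≠ 0 := by
        rintro rfl
        apply hD
        rw [hα0]; ring
      exact key β hβ0 eβ
    · exact key α hα0 eα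
  obtain ⟨c, hc0, hc⟩ := Cfsg.Agent.Lib.Helper47.UC.tg2_h90 q hF μ hμ1
  refine ⟨c, hc0, ?_⟩
  have fin : ∀ z : F, z ^ q = μ * z → (c * z) ^ q = c * z := by
    intro z e
    rw [mul_pow, e, ← mul_assoc, hc]
  have hall : ∀ i j, (a : Matrix (Fin 2) (Fin 2) F) i j ^ q = μ * (a : Matrix (Fin 2) (Fin 2) F) i j := by
    rw [Fin.forall_fin_two]
    constructor <;> rw [Fin.forall_fin_two]
    · exact ⟨hα ▸ eα, hβ ▸ eβ⟩
    · exact ⟨hγ ▸ eγ, hδ ▸ eδ⟩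
  intro i j
  exact fin _ (hall i j)

end Cfsg.Agent.Lib.Helper47.UG
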