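import Mathlib

/-! Ladder UG, helper file for SOLW: two abstract solvability lemmas. -/

set_option autoImplicit false

namespace Cfsg.Agent.Lib.Helper47.UG

variable {G : Type*} [Group G]

/-- a subgroup of a solvable subgroup is solvable. -/
theorem solwg_mono (A B : Subgroup G) (h : A ≤ B) (hB : Group.IsSolvable B) : Group.IsSolvable A :=
  Group.isSolvable_of_isSolvable_injective (Subgroup.inclusion_injective h)

/-- a subgroup whose commutator subgroup lies in a solvable subgroup is solvable. -/
theorem solwg_of_comm (W B : Subgroup G) (hB : Group.IsSolvable B) (h : ⁅W, W⁆ ≤ B) : Group.IsSolvable W := by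
  have h1 : Group.IsSolvable (⁅W, W⁆ : Subgroup G) := solwg_mono _ _ h hB
  -- the commutator subgroup of `↥W` embeds in `⁅W, W⁆`
  have h2 : Group.IsSolvable (commutator W) := by
    have hmap : (commutator W).map W.subtype ≤ ⁅W, W⁆ := by
      rw [commutator_def, Subgroup.map_commutator]
      apply Subgroup.commutator_mono <;>
        (rintro _ ⟨x, -, rfl⟩; exact x.2)
    let φ : commutator W →* (⁅W, W⁆ : Subgroup G) :=
      { toFun := fun x => ⟨(x : W), hmap ⟨x, x.2, rfl⟩⟩
        map_one' := rfl
        map_mul' := fun _ _ => rfl }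
    refine Group.isSolvable_of_isSolvable_injective (f := φ) ?_
    intro x y hxy
    have := congrArg (fun z : (⁅W, W⁆ : Subgroup G) => (z : G)) hxy
    exact Subtype.ext (Subtype.ext this)
  have h3 : Group.IsSolvable (Abelianization W) := inferInstance
  exact Group.isSolvable_of_ker_le_range (commutator W).subtype (Abelianization.of (G := W)) (by
    intro x hx
    rw [MonoidHom.mem_ker] at hx
    have : x ∈ commutator W := by
      rwa [← QuotientGroup.eq_one_iff]
    exact ⟨⟨x, this⟩, rfl⟩)

/-- the join of two elementwise commuting solvable subgroups is solvable. -/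
theorem solwg_sup (A₀ A₁ : Subgroup G) (h0 : Group.IsSolvable A₀) (h1 : Group.IsSolvable A₁)
    (hc : ∀ x ∈ A₀, ∀ y ∈ A₁, x * y = y * x) : Group.IsSolvable (A₀ ⊔ A₁ : Subgroup G) := by
  let φ : A₀ × A₁ →* G :=
    MonoidHom.noncommCoprod A₀.subtype A₁.subtype (fun x y => hc x x.2 y y.2)
  have hr : A₀ ⊔ A₁ ≤ φ.range := by
    rw [sup_le_iff]
    constructor
    · intro x hx
      exact ⟨(⟨x, hx⟩, 1), by show x * 1 = x; exact mul_one x⟩
    · intro y hy
      exact ⟨(1, ⟨y, hy⟩), by show 1 * y = y; exact one_mul y⟩
  have h2 : Group.IsSolvable φ.range := Group.isSolvable_of_surjective φ.rangeRestrict_surjective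
  exact solwg_mono _ _ hr h2

end Cfsg.Agent.Lib.Helper47.UG
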