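import Cfsg.Agent.Lib.Helper77.Asch.Defs

/-! Ladder UG, auxiliary piece of rung T22: membership in a subfield subgroup. -/

set_option autoImplicit false

namespace Cfsg.Agent.Lib.Helper47.UG

open Cfsg Cfsg.Geo
open Cfsg.Agent.Lib.Helper77.Asch (sc)
open scoped MatrixGroups Matrix

variable {n : ℕ} {F : Type*} [Field F]

/-- a matrix which is, up to a scalar, defined over `F₀` gives an element of the subfield group -/
theorem t22_mem (F₀ : Subfield F) (P' m : GL (Fin n) F) (c : F) (hc : c ≠ 0)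
    (hm : ∀ i j, c * (m : Matrix (Fin n) (Fin n) F) i j ∈ F₀) :
    P' * m * P'⁻¹ ∈ subfieldSubgroup F₀ P' := by
  classical
  let G₀ : Matrix (Fin n) (Fin n) F₀ := fun k j => ⟨c * (m : Matrix (Fin n) (Fin n) F) k j, hm k j⟩
  have hG₀ : G₀.map (F₀.subtype) = c • (m : Matrix (Fin n) (Fin n) F) := by
    ext k j
    rfl
  have hdet : G₀.det ≠ 0 := by
    intro hd
    have h1 : (G₀.map (F₀.subtype)).det = 0 := by
      rw [← RingHom.mapMatrix_apply, ← RingHom.map_det, hd, map_zero]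
    rw [hG₀, Matrix.det_smul] at h1
    have h2 : (m : Matrix (Fin n) (Fin n) F).det ≠ 0 := by
      have := (Matrix.isUnit_iff_isUnit_det _).1 m.isUnit
      exact this.ne_zero
    exact (mul_ne_zero (pow_ne_zero _ hc) h2) h1
  let g₀ : GL (Fin n) F₀ := Matrix.GeneralLinearGroup.mkOfDetNeZero G₀ hdet
  have hfac : m = Matrix.GeneralLinearGroup.map (F₀.subtype : F₀ →+* F) g₀ *
      (sc (Units.mk0 c hc)⁻¹ : GL (Fin n) F) := by
    apply Units.ext
    rw [Units.val_mul]
    have h1 : ((Matrix.GeneralLinearGroup.map (F₀.subtype : F₀ →+* F) g₀ : GL (Fin n) F) :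
        Matrix (Fin n) (Fin n) F) = c • (m : Matrix (Fin n) (Fin n) F) := by
      rw [← hG₀]; rfl
    have h2 : ((sc (Units.mk0 c hc)⁻¹ : GL (Fin n) F) : Matrix (Fin n) (Fin n) F) =
        c⁻¹ • (1 : Matrix (Fin n) (Fin n) F) := by
      simp [sc, Matrix.smul_one_eq_diagonal]
    rw [h1, h2, Matrix.mul_smul, Matrix.smul_mul, mul_one, smul_smul, inv_mul_cancel₀ hc, one_smul]
  refine Subgroup.mem_map.2 ⟨m, ?_, ?_⟩
  · rw [hfac]
    exact Subgroup.mul_mem_sup ⟨g₀, rfl⟩ ⟨_, rfl⟩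
  · simp

end Cfsg.Agent.Lib.Helper47.UG
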